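import Groth.Agent.Lib.Flatness.Criterion
import Groth.Agent.Lib.Flatness.InjMod
import Groth.Agent.Lib.Dim.Ring
import Mathlib.RingTheory.Flat.Stability
import Mathlib.RingTheory.Filtration
import Mathlib.Algebra.Module.Torsion.Basic

/-!
# Descent of flatness along finite injective maps of Noetherian rings
-/

universe u

open TensorProduct Function

namespace GrothLib.FiniteDescent

open GrothLib.Flatness

variable {R : Type u} [CommRing R] {M : Type u} [AddCommGroup M] [Module R M]

theorem flat_quotient_of_le {L J : Ideal R} (h : L ≤ J) [Module.Flat (R ⧸ L) ((R ⧸ L) ⊗[R] M)] :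
    Module.Flat (R ⧸ J) ((R ⧸ J) ⊗[R] M) := by
  let _ : Algebra (R ⧸ L) (R ⧸ J) := (Ideal.Quotient.factor h).toAlgebra
  have : IsScalarTower R (R ⧸ L) (R ⧸ J) := .of_algebraMap_eq fun _ => rfl
  exact Module.Flat.of_linearEquiv
    (AlgebraTensorModule.cancelBaseChange R (R ⧸ L) (R ⧸ J) (R ⧸ J) M).symm

variable {S : Type u} [CommRing S] [Algebra R S]

theorem flat_baseChange_quotient {S₀ : Type u} [CommRing S₀] [Algebra R S₀] [Algebra S S₀]
    [IsScalarTower R S S₀] [Module.Flat S (S ⊗[R] M)] : Module.Flat S₀ (S₀ ⊗[R] M) :=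
  Module.Flat.of_linearEquiv (AlgebraTensorModule.cancelBaseChange R S S₀ S₀ M).symm

/-- An ideal of `S` stays inside `S ⊗ M`. -/
theorem rTensor_ideal_injective [Module.Flat S (S ⊗[R] M)] (K : Ideal S) :
    Injective ((K.subtype.restrictScalars R).rTensor M) := by
  have h : Injective (K.subtype.rTensor (S ⊗[R] M)) :=
    Module.Flat.rTensor_preserves_injective_linearMap _ K.injective_subtype
  let eK := AlgebraTensorModule.cancelBaseChange R S S K M
  let eS := AlgebraTensorModule.cancelBaseChange R S S S M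
  have key : ∀ x, eS (K.subtype.rTensor _ x) = (K.subtype.restrictScalars R).rTensor M (eK x) :=
    fun x => by
      induction x using TensorProduct.induction_on with
      | zero => simp
      | add x y hx hy => simp only [map_add, hx, hy]
      | tmul a y =>
        induction y using TensorProduct.induction_on with
        | zero => simp
        | add x y hx hy => simp only [tmul_add, map_add, hx, hy]
        | tmul r m =>
          simp only [eK, eS, LinearMap.rTensor_tmul, AlgebraTensorModule.cancelBaseChange_tmul]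
          rfl
  intro x y hxy
  obtain ⟨x, rfl⟩ := eK.surjective x
  obtain ⟨y, rfl⟩ := eK.surjective y
  rw [← key, ← key] at hxy
  rw [h (eS.injective hxy)]

theorem eq_zero_of_smul_eq_zero (hinj : Injective (algebraMap R S)) (X : Ideal R) :
    (X.annihilator.map (algebraMap R S)).comap (algebraMap R S) = X.annihilator := by
  refine le_antisymm (fun r hr => ?_) Ideal.le_comap_map
  rw [Submodule.mem_annihilator]
  intro x hx
  apply hinj
  rw [map_zero, smul_eq_mul, map_mul]
  have : X.annihilator.map (algebraMap R S) ≤ (Ideal.span {algebraMap R S x}).annihilator := by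
    rw [Ideal.map_le_iff_le_comap]
    intro a ha
    rw [Ideal.mem_comap, Submodule.mem_annihilator_span_singleton, smul_eq_mul, ← map_mul,
      show a * x = 0 from Submodule.mem_annihilator.1 ha x hx, map_zero]
  have h2 := this hr
  rwa [Submodule.mem_annihilator_span_singleton] at h2

theorem lTensor_subtype_injective [Module.Flat S (S ⊗[R] M)] (hinj : Injective (algebraMap R S))
    (A B : Ideal R) (hAB : B ≤ A.annihilator) [Module.Flat (R ⧸ B) ((R ⧸ B) ⊗[R] M)] :
    Injective (A.subtype.lTensor M) := by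
  rw [LinearMap.lTensor_inj_iff_rTensor_inj]
  let K : Ideal S := A.map (algebraMap R S)
  let i : A →ₗ[R] K :=
    { toFun := fun a => ⟨algebraMap R S a, Ideal.mem_map_of_mem _ a.2⟩
      map_add' := fun a b => Subtype.ext (map_add _ _ _)
      map_smul' := fun r a => Subtype.ext (by simp [Algebra.smul_def]) }
  have hA : Module.IsTorsionBySet R A B := fun x r =>
    Subtype.ext (Submodule.mem_annihilator.1 (hAB r.2) x x.2)
  have hK : Module.IsTorsionBySet R K B := fun x r => by
    refine Subtype.ext ?_
    have : (x : S) ∈ ((Ideal.span {algebraMap R S r}).annihilator) := by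
      refine (Ideal.map_le_iff_le_comap.2 fun a ha => ?_) x.2
      rw [Ideal.mem_comap, Submodule.mem_annihilator_span_singleton, smul_eq_mul, ← map_mul,
        mul_comm, show (r : R) * a = 0 from Submodule.mem_annihilator.1 (hAB r.2) a ha, map_zero]
    rw [Submodule.mem_annihilator_span_singleton, smul_eq_mul] at this
    show (r : R) • (x : S) = 0
    rw [Algebra.smul_def, mul_comm, this]
  have h1 : Injective (i.rTensor M) := by
    rw [← LinearMap.lTensor_inj_iff_rTensor_inj]
    exact lTensor_injective_of_flat_quotient B ‹_› hA hK i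
      fun a b hab => Subtype.ext (hinj (congrArg Subtype.val hab))
  have h2 : (K.subtype.restrictScalars R) ∘ₗ i = Algebra.linearMap R S ∘ₗ A.subtype := by
    ext a; rfl
  have h3 : Injective (((K.subtype.restrictScalars R) ∘ₗ i).rTensor M) := by
    rw [LinearMap.rTensor_comp]; exact (rTensor_ideal_injective K).comp h1
  rw [h2, LinearMap.rTensor_comp] at h3
  exact Injective.of_comp h3

theorem flat_of_annihilators [Module.Flat S (S ⊗[R] M)] (hinj : Injective (algebraMap R S))
    (A B : Ideal R) (hAB : A = B.annihilator) (hBA : B = A.annihilator)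
    [Module.Flat (R ⧸ A) ((R ⧸ A) ⊗[R] M)] [Module.Flat (R ⧸ B) ((R ⧸ B) ⊗[R] M)] :
    Module.Flat R M := by
  have h1A := lTensor_subtype_injective (M := M) hinj A B hBA.le
  have h1B := lTensor_subtype_injective (M := M) hinj B A hAB.le
  refine flat_of_good fun I _ => ?_
  set N : Submodule R (R ⧸ I) := B • ⊤
  refine Good.extension N.subtype N.mkQ N.injective_subtype N.mkQ_surjective
    (LinearMap.exact_subtype_mkQ N) ?_ ?_
  · refine good_of_isTorsionBySet A h1A ‹_› _ fun x a => Subtype.ext ?_
    refine Submodule.smul_induction_on (p := fun y => (a : R) • y = 0) x.2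
      (fun b hb y _ => ?_) (fun y z hy hz => by rw [smul_add, hy, hz, add_zero])
    rw [← mul_smul, show (a : R) * b = 0 from Submodule.mem_annihilator.1 (hAB.le a.2) b hb, zero_smul]
  · refine good_of_isTorsionBySet B h1B ‹_› _ fun x a => ?_
    obtain ⟨x, rfl⟩ := N.mkQ_surjective x
    rw [← map_smul, Submodule.mkQ_apply, Submodule.Quotient.mk_eq_zero]
    exact Submodule.smul_mem_smul a.2 trivial

theorem flat_of_isDomain [IsNoetherianRing R] [IsDomain R] [Module.Finite R S]
    [Module.IsTorsionFree R S] [Module.Flat S (S ⊗[R] M)] (hinj : Injective (algebraMap R S))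
    (hrec : ∀ L : Ideal R, L ≠ ⊥ → (L.map (algebraMap R S)).comap (algebraMap R S) = L →
      Module.Flat (R ⧸ L) ((R ⧸ L) ⊗[R] M)) : Module.Flat R M := by
  classical
  obtain ⟨ι, _, F, hF⟩ := GrothLib.Dim.exists_injective_linearMap_pi (P := R) (M := S)
  obtain ⟨i₀, hc⟩ : ∃ i, F 1 i ≠ 0 := by
    by_contra hc
    push Not at hc
    exact one_ne_zero (hinj (by
      rw [map_one, map_zero, hF ((funext hc).trans (F.map_zero).symm)]))
  let f : S →ₗ[R] R := LinearMap.proj i₀ ∘ₗ F
  set c := F 1 i₀ with hcdef
  have hf1 : f 1 = c := rfl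
  -- flatness modulo every power of `c`
  have hmod : ∀ m : ℕ, Module.Flat (R ⧸ Ideal.span {c ^ m}) ((R ⧸ Ideal.span {c ^ m}) ⊗[R] M) := by
    intro m
    obtain ⟨k, hk⟩ := Ideal.exists_pow_inf_eq_pow_smul (Ideal.span {c}) (Submodule.span R {(1 : S)})
    let L := ((Ideal.span {c ^ (m + k)}).map (algebraMap R S)).comap (algebraMap R S)
    have hL0 : L ≠ ⊥ := fun e => pow_ne_zero (m + k) hc
      ((Submodule.mem_bot R).1 (e ▸ Ideal.le_comap_map (Ideal.mem_span_singleton_self _)))
    have hLc : (L.map (algebraMap R S)).comap (algebraMap R S) = L :=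
      le_antisymm (Ideal.comap_mono Ideal.map_comap_le) Ideal.le_comap_map
    have hle : L ≤ Ideal.span {c ^ m} := by
      intro r hr
      have h1 : r • (1 : S) ∈ (Ideal.span {c}) ^ (m + k) • (⊤ : Submodule R S) ⊓
          Submodule.span R {(1 : S)} := by
        refine ⟨?_, Submodule.smul_mem _ r (Submodule.mem_span_singleton_self _)⟩
        rw [SetLike.mem_coe, Ideal.span_singleton_pow, Ideal.smul_top_eq_map,
          Submodule.restrictScalars_mem, ← Algebra.algebraMap_eq_smul_one]
        exact hr
      rw [hk (m + k) (Nat.le_add_left k m), Nat.add_sub_cancel, Ideal.span_singleton_pow] at h1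
      have h2 := Submodule.smul_mono le_rfl inf_le_right h1
      rw [Submodule.ideal_span_singleton_smul] at h2
      obtain ⟨y, hy, hy'⟩ := Submodule.mem_smul_pointwise_iff_exists _ _ _ |>.1 h2
      obtain ⟨a, rfl⟩ := Submodule.mem_span_singleton.1 hy
      refine Ideal.mem_span_singleton.2 ⟨a, ?_⟩
      apply hinj
      rw [Algebra.algebraMap_eq_smul_one, ← hy', smul_smul, Algebra.algebraMap_eq_smul_one]
    have := hrec L hL0 hLc
    exact flat_quotient_of_le hle
  -- `c` is regular on `M`
  have hregS : ∀ z : S ⊗[R] M, c • z = 0 → z = 0 := by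
    have hS : IsSMulRegular S (algebraMap R S c) := fun a b hab => by
      have : c • a = c • b := by rwa [Algebra.smul_def, Algebra.smul_def]
      exact smul_right_injective S hc this
    have h := Module.Flat.rTensor_preserves_injective_linearMap (M := S ⊗[R] M)
      (LinearMap.lsmul S S (algebraMap R S c)) hS
    intro z hz
    have h1 : (1 : S) ⊗ₜ[S] z = 0 := by
      apply h
      rw [map_zero, LinearMap.rTensor_tmul, LinearMap.lsmul_apply, smul_tmul, algebraMap_smul, hz,
        tmul_zero]
    simpa using congrArg (TensorProduct.lid S (S ⊗[R] M)) h1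
  have hker : ∀ x : M, (1 : S) ⊗ₜ[R] x = 0 → c • x = 0 := fun x hx => by
    have := congrArg ((TensorProduct.lid R M).toLinearMap ∘ₗ f.rTensor M) hx
    simpa [hf1] using this
  have hdiv : ∀ x : M, c • x = 0 → x ∈ Ideal.span {c} • (⊤ : Submodule R M) := by
    intro x hx
    let μ : (R ⧸ Ideal.span {c}) →ₗ[R] (R ⧸ Ideal.span {c ^ 2}) :=
      (Ideal.span {c}).liftQ ((Ideal.span {c ^ 2}).mkQ ∘ₗ LinearMap.lsmul R R c) (fun a ha => by
        obtain ⟨b, rfl⟩ := Ideal.mem_span_singleton.1 ha
        simp only [LinearMap.mem_ker, LinearMap.comp_apply, LinearMap.lsmul_apply, smul_eq_mul,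
          Submodule.mkQ_apply, Submodule.Quotient.mk_eq_zero]
        exact Ideal.mem_span_singleton.2 ⟨b, by ring⟩)
    have hμ : Injective μ := by
      refine LinearMap.ker_eq_bot.1 (eq_bot_iff.2 fun z hz => ?_)
      obtain ⟨a, rfl⟩ := Submodule.mkQ_surjective _ z
      have : c * a ∈ Ideal.span {c ^ 2} := (Submodule.Quotient.mk_eq_zero _).1 hz
      obtain ⟨b, hb⟩ := Ideal.mem_span_singleton.1 this
      rw [Submodule.mem_bot, Submodule.mkQ_apply, Submodule.Quotient.mk_eq_zero]
      exact Ideal.mem_span_singleton.2 ⟨b, mul_left_cancel₀ hc (by rw [hb]; ring)⟩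
    have h1 : Module.IsTorsionBySet R (R ⧸ Ideal.span {c}) (Ideal.span {c ^ 2} : Ideal R) :=
      fun z a => by
        obtain ⟨z, rfl⟩ := Submodule.mkQ_surjective _ z
        rw [← map_smul, Submodule.mkQ_apply, Submodule.Quotient.mk_eq_zero]
        refine Ideal.mul_mem_right _ _ ?_
        exact Ideal.span_singleton_le_span_singleton.2 (dvd_pow_self c two_ne_zero) a.2
    have h2 : Module.IsTorsionBySet R (R ⧸ Ideal.span {c ^ 2}) (Ideal.span {c ^ 2} : Ideal R) :=
      fun z a => by
        obtain ⟨z, rfl⟩ := Submodule.mkQ_surjective _ z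
        rw [← map_smul, Submodule.mkQ_apply, Submodule.Quotient.mk_eq_zero]
        exact Ideal.mul_mem_right _ _ a.2
    have hinj' := lTensor_injective_of_flat_quotient (M := M) _ (hmod 2) h1 h2 μ hμ
    have h3 : x ⊗ₜ[R] (Ideal.span {c}).mkQ 1 = 0 := by
      apply hinj'
      rw [LinearMap.lTensor_tmul, map_zero]
      show x ⊗ₜ[R] (Ideal.span {c ^ 2}).mkQ (c • 1) = 0
      rw [map_smul, ← smul_tmul, hx, zero_tmul]
    have h4 := congrArg (TensorProduct.comm R M (R ⧸ Ideal.span {c})) h3
    rw [TensorProduct.comm_tmul, map_zero] at h4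
    exact (one_tmul_eq_zero_iff _ x).1 h4
  have hregM : ∀ x : M, c • x = 0 → x = 0 := by
    intro x hx
    have h0 : (1 : S) ⊗ₜ[R] x = 0 := hregS _ (by rw [← tmul_smul, hx, tmul_zero])
    obtain ⟨y, -, rfl⟩ := Submodule.mem_smul_pointwise_iff_exists _ _ _ |>.1
      (Submodule.ideal_span_singleton_smul c (⊤ : Submodule R M) ▸ hdiv x hx)
    refine hker y (hregS _ ?_)
    rw [← tmul_smul]; exact h0
  have h1c : Injective ((Ideal.span {c}).subtype.lTensor M) := by
    have hrep : ∀ z : M ⊗[R] ↥(Ideal.span {c}),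
        ∃ y : M, z = y ⊗ₜ[R] ⟨c, Ideal.mem_span_singleton_self c⟩ := fun z => by
      induction z using TensorProduct.induction_on with
      | zero => exact ⟨0, (zero_tmul _ _).symm⟩
      | add a b ha hb =>
        obtain ⟨a, rfl⟩ := ha; obtain ⟨b, rfl⟩ := hb
        exact ⟨a + b, (add_tmul _ _ _).symm⟩
      | tmul m j =>
        obtain ⟨r, hr⟩ := Ideal.mem_span_singleton'.1 j.2
        exact ⟨r • m, by rw [smul_tmul]; congr 1; exact Subtype.ext hr.symm⟩
    rw [injective_iff_map_eq_zero]
    intro z hz
    obtain ⟨y, rfl⟩ := hrep z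
    have h5 := congrArg (TensorProduct.rid R M) hz
    rw [LinearMap.lTensor_tmul, TensorProduct.rid_tmul, map_zero] at h5
    rw [hregM y h5, zero_tmul]
  rw [Module.Flat.iff_rTensor_injective']
  intro J
  rw [injective_iff_map_eq_zero]
  intro x hx
  -- `c • x = 0` because `c` factors through `J S`
  let K : Ideal S := J.map (algebraMap R S)
  let i : J →ₗ[R] K :=
    { toFun := fun a => ⟨algebraMap R S a, Ideal.mem_map_of_mem _ a.2⟩
      map_add' := fun a b => Subtype.ext (map_add _ _ _)
      map_smul' := fun r a => Subtype.ext (by simp [Algebra.smul_def]) }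
  let g : K →ₗ[R] J := (f ∘ₗ K.subtype.restrictScalars R).codRestrict J fun k => by
    have hk : (k : S) ∈ J • (⊤ : Submodule R S) := by
      rw [Ideal.smul_top_eq_map, Submodule.restrictScalars_mem]; exact k.2
    have := Submodule.smul_top_le_comap_smul_top J f hk
    rwa [smul_eq_mul, Ideal.mul_top] at this
  have hgi : g ∘ₗ i = c • LinearMap.id := by
    refine LinearMap.ext fun a => Subtype.ext ?_
    show f (algebraMap R S a) = c * a
    rw [Algebra.algebraMap_eq_smul_one, map_smul, hf1, smul_eq_mul, mul_comm]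
  have hix : i.rTensor M x = 0 := by
    refine rTensor_ideal_injective K ?_
    rw [map_zero, ← LinearMap.rTensor_comp_apply,
      show K.subtype.restrictScalars R ∘ₗ i = Algebra.linearMap R S ∘ₗ J.subtype from rfl,
      LinearMap.rTensor_comp_apply, hx, map_zero]
  have hcx : c • x = 0 := by
    have := congrArg (g.rTensor M) hix
    rwa [← LinearMap.rTensor_comp_apply, hgi, map_zero, LinearMap.rTensor_smul,
      LinearMap.rTensor_id, LinearMap.smul_apply, LinearMap.id_apply] at this
  -- `c` is regular on `J ⊗ M`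
  let i' : J →ₗ[R] J := c • LinearMap.id
  have hgood : Good R M (J ⧸ LinearMap.range i') := by
    have := hmod 1
    refine good_of_isTorsionBySet (Ideal.span {c}) h1c
      (flat_quotient_of_le (L := Ideal.span {c ^ 1}) (by rw [pow_one])) _ fun z a => ?_
    obtain ⟨z, rfl⟩ := Submodule.mkQ_surjective _ z
    obtain ⟨r, hr⟩ := Ideal.mem_span_singleton.1 a.2
    rw [← map_smul, Submodule.mkQ_apply, Submodule.Quotient.mk_eq_zero]
    exact ⟨r • z, by simp [i', hr, smul_smul, mul_comm]⟩
  have hinjJ := hgood J J i' (LinearMap.range i').mkQ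
    (fun a b hab => smul_right_injective _ hc hab) (Submodule.mkQ_surjective _)
    (LinearMap.exact_map_mkQ_range i')
  rw [LinearMap.lTensor_inj_iff_rTensor_inj] at hinjJ
  refine hinjJ ?_
  rw [map_zero, LinearMap.rTensor_smul, LinearMap.rTensor_id, LinearMap.smul_apply,
    LinearMap.id_apply, hcx]

/-- Descent of flatness along a finite injective map. -/
theorem flat_step [IsNoetherianRing R] [Module.Finite R S]
    [Module.Flat S (S ⊗[R] M)] (hinj : Injective (algebraMap R S))
    (hrec : ∀ L : Ideal R, L ≠ ⊥ → (L.map (algebraMap R S)).comap (algebraMap R S) = L →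
      Module.Flat (R ⧸ L) ((R ⧸ L) ⊗[R] M)) : Module.Flat R M := by
  rcases subsingleton_or_nontrivial R with hR | hR
  · have : Subsingleton M := Module.subsingleton R M
    infer_instance
  by_cases hd : ∀ a b : R, a * b = 0 → a = 0 ∨ b = 0
  · have : NoZeroDivisors R := ⟨fun {a b} h => hd a b h⟩
    have : IsDomain R := NoZeroDivisors.to_isDomain R
    let T : Ideal S :=
      { carrier := {x | ∃ r : R, r ≠ 0 ∧ r • x = 0}
        zero_mem' := ⟨1, one_ne_zero, smul_zero _⟩
        add_mem' := fun {x y} ⟨r, hr, hx⟩ ⟨s, hs, hy⟩ => ⟨r * s, mul_ne_zero hr hs, by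
          rw [smul_add, mul_comm r s, mul_smul, hx, mul_comm s r, mul_smul, hy, smul_zero, smul_zero,
            add_zero]⟩
        smul_mem' := fun a {x} ⟨r, hr, hx⟩ => ⟨r, hr, by rw [smul_comm, hx, smul_zero]⟩ }
    have hinj₀ : Injective (algebraMap R (S ⧸ T)) := by
      rw [injective_iff_map_eq_zero]
      intro a ha
      rw [IsScalarTower.algebraMap_apply R S (S ⧸ T)] at ha
      obtain ⟨r, hr, hra⟩ := Ideal.Quotient.eq_zero_iff_mem.1 ha
      rw [Algebra.smul_def, ← map_mul, ← map_zero (algebraMap R S)] at hra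
      exact (mul_eq_zero.1 (hinj hra)).resolve_left hr
    have : Module.Finite R (S ⧸ T) :=
      Module.Finite.of_surjective (IsScalarTower.toAlgHom R S (S ⧸ T)).toLinearMap Ideal.Quotient.mk_surjective
    have : Module.IsTorsionFree R (S ⧸ T) := by
      refine Module.isTorsionFree_iff_smul_eq_zero.2 fun r z hz => ?_
      by_cases hr : r = 0
      · exact Or.inl hr
      obtain ⟨z, rfl⟩ := Ideal.Quotient.mk_surjective z
      rw [← Ideal.Quotient.mkₐ_eq_mk R, ← map_smul, Ideal.Quotient.mkₐ_eq_mk,
        Ideal.Quotient.eq_zero_iff_mem] at hz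
      obtain ⟨s, hs, hsz⟩ := hz
      exact Or.inr (Ideal.Quotient.eq_zero_iff_mem.2 ⟨s * r, mul_ne_zero hs hr, by rw [mul_smul, hsz]⟩)
    have := flat_baseChange_quotient (R := R) (M := M) (S := S) (S₀ := S ⧸ T)
    refine flat_of_isDomain hinj₀ fun L hL0 hL => hrec L hL0 ?_
    refine le_antisymm ?_ Ideal.le_comap_map
    conv_rhs => rw [← hL]
    rw [IsScalarTower.algebraMap_eq R S (S ⧸ T), ← Ideal.map_map, ← Ideal.comap_comap]
    exact Ideal.comap_mono Ideal.le_comap_map
  · push Not at hd
    obtain ⟨a, b, hab, ha, hb⟩ := hd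
    set B : Ideal R := (Ideal.span {a}).annihilator with hBdef
    set A : Ideal R := B.annihilator with hAdef
    have haA : a ∈ A := Submodule.mem_annihilator.2 fun y hy => by
      rw [smul_eq_mul, mul_comm]
      exact Submodule.mem_annihilator.1 hy a (Ideal.mem_span_singleton_self a)
    have hB : B = A.annihilator := by
      refine le_antisymm (fun y hy => Submodule.mem_annihilator.2 fun z hz => ?_)
        (fun y hy => Submodule.mem_annihilator_span_singleton .. |>.2 ?_)
      · rw [smul_eq_mul, mul_comm]; exact Submodule.mem_annihilator.1 hz y hy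
      · exact Submodule.mem_annihilator.1 hy a haA
    have hbB : b ∈ B := (Submodule.mem_annihilator_span_singleton ..).2 (by
      rw [smul_eq_mul, mul_comm, hab])
    have := hrec A (fun e => ha ((Submodule.mem_bot R).1 (e ▸ haA))) (eq_zero_of_smul_eq_zero hinj B)
    have := hrec B (fun e => hb ((Submodule.mem_bot R).1 (e ▸ hbB)))
      (eq_zero_of_smul_eq_zero hinj _)
    exact flat_of_annihilators hinj A B hAdef hB

theorem flat_quotient_of_contracted [IsNoetherianRing R] [Module.Finite R S]
    [Module.Flat S (S ⊗[R] M)] (J : Ideal R)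
    (hJ : (J.map (algebraMap R S)).comap (algebraMap R S) = J) :
    Module.Flat (R ⧸ J) ((R ⧸ J) ⊗[R] M) := by
  induction J using WellFoundedGT.induction with
  | _ J ih =>
    let S' := S ⧸ J.map (algebraMap R S)
    have : Module.Finite (R ⧸ J) S' := Module.Finite.of_restrictScalars_finite R _ _
    have hinj' : Injective (algebraMap (R ⧸ J) S') := by
      rw [injective_iff_map_eq_zero]
      intro a ha
      obtain ⟨a, rfl⟩ := Ideal.Quotient.mk_surjective a
      refine Ideal.Quotient.eq_zero_iff_mem.2 (hJ.le ?_)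
      exact Ideal.mem_comap.2 (Ideal.Quotient.eq_zero_iff_mem.1 ha)
    have hflat : Module.Flat S' (S' ⊗[R ⧸ J] ((R ⧸ J) ⊗[R] M)) := by
      have := flat_baseChange_quotient (R := R) (M := M) (S := S) (S₀ := S')
      exact Module.Flat.of_linearEquiv
        (AlgebraTensorModule.cancelBaseChange R (R ⧸ J) S' S' M)
    refine flat_step (S := S') hinj' fun L hL0 hL => ?_
    set J' := L.comap (Ideal.Quotient.mk J)
    have hlt : J < J' := by
      refine lt_of_le_of_ne (fun a ha => ?_) fun e => hL0 ?_
      · rw [Ideal.mem_comap, Ideal.Quotient.eq_zero_iff_mem.2 ha]; exact L.zero_mem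
      · rw [← Ideal.map_comap_of_surjective _ Ideal.Quotient.mk_surjective L]
        show J'.map _ = ⊥
        rw [← e, Ideal.map_quotient_self]
    have := ih J' hlt (by
      refine le_antisymm ?_ Ideal.le_comap_map
      intro a ha
      rw [Ideal.mem_comap] at ha ⊢
      rw [← hL, Ideal.mem_comap]
      have h1 := Ideal.mem_map_of_mem (Ideal.Quotient.mk (J.map (algebraMap R S))) ha
      rw [Ideal.map_map] at h1
      have h2 : (J'.map (Ideal.Quotient.mk J)).map (algebraMap (R ⧸ J) S') ≤
          L.map (algebraMap (R ⧸ J) S') := Ideal.map_mono Ideal.map_comap_le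
      refine h2 ?_
      rw [Ideal.map_map]
      exact h1)
    let _ : Algebra (R ⧸ J') ((R ⧸ J) ⧸ L) :=
      (Ideal.quotientMap L (Ideal.Quotient.mk J) le_rfl).toAlgebra
    have : IsScalarTower R (R ⧸ J') ((R ⧸ J) ⧸ L) := .of_algebraMap_eq fun _ => rfl
    have h3 : Module.Flat ((R ⧸ J) ⧸ L) (((R ⧸ J) ⧸ L) ⊗[R] M) :=
      flat_baseChange_quotient (R := R) (M := M) (S := R ⧸ J') (S₀ := (R ⧸ J) ⧸ L)
    exact Module.Flat.of_linearEquiv
      (AlgebraTensorModule.cancelBaseChange R (R ⧸ J) ((R ⧸ J) ⧸ L) ((R ⧸ J) ⧸ L) M)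

theorem flat_of_finite_injective [IsNoetherianRing R] [Module.Finite R S]
    [Module.Flat S (S ⊗[R] M)] (hinj : Injective (algebraMap R S)) : Module.Flat R M :=
  flat_step hinj fun L _ hL => flat_quotient_of_contracted L hL

end GrothLib.FiniteDescent
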